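/-
Odd order theorem project: group-theoretic vocabulary (everything lives in ONE ambient finite
group `G`; "groups" are subgroups of it, as in the MathComp development).
References: BG = Bender-Glauberman, "Local analysis for the odd order theorem";
PF = Peterfalvi, "Character theory for the odd order theorem".
-/
import Mathlib
import Cfsg.Prelude.Def_OddOrderLocal
import Cfsg.Prelude.Def_HallClasses
import Cfsg.Prelude.Def_Local
import Cfsg.Prelude.Def_PLocal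
import Cfsg.Prelude.Def_Amalgam
import Cfsg.Agent.H1.Basic
import Cfsg.Agent.H1.SZ
import Cfsg.Agent.H1.Coprime
import Cfsg.Agent.H1.Abelian
import Cfsg.Agent.H1.Generation
import Cfsg.Agent.H1.PAction
import Cfsg.Agent.H1.Section
import Cfsg.Agent.H1.Hall
import Cfsg.Agent.H2.Subnormal
import Cfsg.Agent.H2.Radical
import Cfsg.Agent.H3.PBasic
import Cfsg.Agent.H3.RankOne
import Cfsg.Agent.L.Cores
import Cfsg.Agent.L.Fitting
import Cfsg.Agent.L.MinNormal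
import Cfsg.Agent.L.PiSep
import Cfsg.Agent.L.PLength

set_option autoImplicit false

namespace Cfsg.Agent.FT

open Subgroup Cfsg Cfsg.Agent

/-- `𝐍(H)`: normalizer in the ambient group of a subgroup. -/
scoped notation:max "𝐍(" H ")" => Subgroup.normalizer (SetLike.coe H)
/-- `𝐂(H)`: centralizer in the ambient group of a subgroup. -/
scoped notation:max "𝐂(" H ")" => Subgroup.centralizer (SetLike.coe H)
/-- `𝐂[x]`: centralizer of an element. -/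
scoped notation:max "𝐂[" x "]" => Subgroup.centralizer (Singleton.singleton x : Set _)
/-- `𝐙(H)`: the centre of a subgroup, in the ambient group. -/
scoped notation:max "𝐙(" H ")" => H ⊓ Subgroup.centralizer (SetLike.coe H)
/-- `𝚽(H)`: the Frattini subgroup of a subgroup, in the ambient group. -/
scoped notation:max "𝚽(" H ")" => Subgroup.map (Subgroup.subtype H) (frattini H)
/-- `H ^ᵍ g = g H g⁻¹`. -/
scoped notation:80 H:80 " ^ᵍ " g:81 =>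
  Subgroup.map (MulEquiv.toMonoidHom (MulAut.conj g)) H
/-- `N ⊲ H`: `N` is a normal subgroup of the subgroup `H`. -/
scoped notation:50 N:51 " ⊲ " H:51 => N ≤ H ∧ H ≤ Subgroup.normalizer (SetLike.coe N)
/-- `𝐨(H)`: the order of a subgroup. -/
scoped notation:max "𝐨(" H ")" => Nat.card ↥H

universe u

variable {G : Type u} [Group G]

/-! ### Primes, π-elements, Sylow subgroups, normal complements -/

/-- `π(H)`. -/
def piOf (H : Subgroup G) : Set ℕ := {p | p.Prime ∧ p ∣ Nat.card H}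

/-- `x` is a π-element. -/
def IsPiElt (π : Set ℕ) (x : G) : Prop := ∀ p : ℕ, p.Prime → p ∣ orderOf x → p ∈ π

/-- The π-part `x_π` of an element (a power of `x`, see `Base.lean`). -/
noncomputable def piPt (π : Set ℕ) (x : G) : G :=
  Classical.epsilon fun a => a ∈ zpowers x ∧ IsPiElt π a ∧ IsPiElt πᶜ (a⁻¹ * x)

/-- `P` is a Sylow `p`-subgroup of the subgroup `M`. -/
structure IsSyl (p : ℕ) (P M : Subgroup G) : Prop where
  le : P ≤ M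
  pgrp : IsPGroup p P
  ndvd : ¬ p ∣ P.relIndex M

/-- `H` is a Hall subgroup of `M`. -/
def IsHallIn (H M : Subgroup G) : Prop := H ≤ M ∧ (Nat.card H).Coprime (H.relIndex M)

/-- `H` has a normal `p`-complement (namely `O_{p'}(H)`). -/
def HasNPC (p : ℕ) (H : Subgroup G) : Prop := IsPiHallOf {p}ᶜ (H2.pPrimeCoreOf p H) H

/-- `O_{p',p}(H)` inside the ambient group. -/
def pPrimePCoreOf (p : ℕ) (H : Subgroup G) : Subgroup G := (pPrimePCore p H).map H.subtype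

/-- `K / M` (more precisely `K M / M`) is nilpotent. -/
def NilMod (K M : Subgroup G) : Prop := ∃ n, K.lowerCentralSeries n ≤ M

/-- `K / M` (more precisely `K M / M`) is cyclic. -/
def CycMod (K M : Subgroup G) : Prop := ∃ x ∈ K, K ≤ zpowers x ⊔ M

/-- The centralizer of the section `U / V` (for `V ⊲ U`): the `x` normalizing `V` with `[U, x] ≤ V`. -/
abbrev centMod (U V : Subgroup G) : Subgroup G := H1.commStab U V

/-- `U / V` is a chief factor of `H`. -/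
structure ChiefFactor (H V U : Subgroup G) : Prop where
  lt : V < U
  le : U ≤ H
  normV : H ≤ 𝐍(V)
  normU : H ≤ 𝐍(U)
  min : ∀ W : Subgroup G, V ≤ W → W ≤ U → H ≤ 𝐍(W) → W = V ∨ W = U

/-! ### Products -/

/-- `K = A × B`. -/
structure DProd (A B K : Subgroup G) : Prop where
  sup : A ⊔ B = K
  cent : B ≤ 𝐂(A)
  disj : A ⊓ B = ⊥

/-- `K = A ∘ B` (central product). -/
structure CProd (A B K : Subgroup G) : Prop where
  sup : A ⊔ B = K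
  cent : B ≤ 𝐂(A)

/-- `M = K ⋊ H`. -/
structure SdProd (K H M : Subgroup G) : Prop where
  sup : K ⊔ H = M
  norm : H ≤ 𝐍(K)
  disj : K ⊓ H = ⊥

/-! ### Elementary abelian subgroups and ranks -/

/-- `A` is elementary abelian of order `p ^ n` (`A ∈ E_p^n(H)` is `A ≤ H ∧ IsElem p n A`;
for `n = 1` we simply write `𝐨(A) = p`). -/
def IsElem (p n : ℕ) (A : Subgroup G) : Prop := IsElementaryAbelian p A ∧ Nat.card A = p ^ n

/-- `A ∈ E_p^*(H)`: a maximal elementary abelian `p`-subgroup of `H`. -/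
def IsMaxElem (p : ℕ) (A H : Subgroup G) : Prop :=
  A ≤ H ∧ IsElementaryAbelian p A ∧
    ∀ B : Subgroup G, B ≤ H → IsElementaryAbelian p B → A ≤ B → B = A

/-- `r_p(H)`. -/
noncomputable def pRank (p : ℕ) (H : Subgroup G) : ℕ :=
  sSup {n | ∃ A : Subgroup G, A ≤ H ∧ IsElem p n A}

/-- `r(H)`. -/
noncomputable def rank (H : Subgroup G) : ℕ :=
  sSup {n | ∃ p : ℕ, p.Prime ∧ ∃ A : Subgroup G, A ≤ H ∧ IsElem p n A}

/-- `Z₂(R)`. -/
def center2 (R : Subgroup G) : Subgroup G := (Subgroup.upperCentralSeries R 2).map R.subtype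

/-- `H` is `p`-narrow (MathComp form): if `r_p(H) ≥ 3` then `E_p^2(H) ∩ E_p^*(H) ≠ ∅`. -/
def Narrow (p : ℕ) (H : Subgroup G) : Prop :=
  2 < pRank p H → ∃ A : Subgroup G, IsElem p 2 A ∧ IsMaxElem p A H

/-- `R` is metacyclic. -/
def Metacyc (R : Subgroup G) : Prop := ∃ K : Subgroup G, K ⊲ R ∧ IsCyclic K ∧ CycMod R K

/-! ### Regular, prime and Frobenius actions; TI-subsets -/

/-- `R` acts regularly (fixed-point-freely) on `K`. -/
def SemiReg (K R : Subgroup G) : Prop := ∀ x ∈ R, x ≠ 1 → K ⊓ 𝐂[x] = ⊥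

/-- `R` acts in a prime manner on `K`. -/
def SemiPrime (K R : Subgroup G) : Prop := ∀ x ∈ R, x ≠ 1 → K ⊓ 𝐂[x] = K ⊓ 𝐂(R)

/-- `K ⊔ R = K ⋊ R` is a Frobenius group with kernel `K` and complement `R`. -/
structure Frob (K R : Subgroup G) : Prop where
  ne_botK : K ≠ ⊥
  ne_botR : R ≠ ⊥
  norm : R ≤ 𝐍(K)
  reg : SemiReg K R

open scoped commutatorElement in
/-- `L / N` is a Frobenius group with kernel `K / N`. -/
structure FrobKerMod (L K N : Subgroup G) : Prop where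
  ltN : N < K
  ltK : K < L
  normK : L ≤ 𝐍(K)
  normN : L ≤ 𝐍(N)
  cent : ∀ x ∈ K, x ∉ N → ∀ g ∈ L, ⁅g, x⁆ ∈ N → g ∈ K

/-- `L` is a Frobenius group with kernel `K`. -/
abbrev FrobKer (L K : Subgroup G) : Prop := FrobKerMod L K ⊥

/-- The nonempty set `A` of non-identity elements is a TI-subset of `X` with normalizer `L`. -/
structure NormedTI (A : Set G) (X L : Subgroup G) : Prop where
  nonempty : A.Nonempty
  one_notMem : (1 : G) ∉ A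
  subset : A ⊆ L
  le : L ≤ X
  norm : ∀ g ∈ L, ∀ a ∈ A, g * a * g⁻¹ ∈ A
  ti : ∀ g ∈ X, ∀ a ∈ A, g * a * g⁻¹ ∈ A → g ∈ L

/-- `H^#`. -/
def sharp (H : Subgroup G) : Set G := {x | x ∈ H ∧ x ≠ 1}

/-- The union of the `X`-conjugates of the set `A`. -/
def classSupp (A : Set G) (X : Subgroup G) : Set G := {y | ∃ a ∈ A, ∃ g ∈ X, y = g * a * g⁻¹}

/-- `W − (W₁ ∪ W₂)` for `W = W₁ ⊔ W₂`. -/
def hatSet (W₁ W₂ : Subgroup G) : Set G := {x | x ∈ W₁ ⊔ W₂ ∧ x ∉ W₁ ∧ x ∉ W₂}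

/-! ### Puig subgroups (BG Appendix B), in the ambient group -/

/-- `L_D(X)`: generated by the abelian subgroups of `D` normalized by `X`. -/
def puigSucc (D X : Subgroup G) : Subgroup G :=
  sSup {A : Subgroup G | A ≤ D ∧ IsMulCommutative A ∧ X ≤ 𝐍(A)}

/-- `L_n(D)`. -/
def puigAt (D : Subgroup G) : ℕ → Subgroup G
  | 0 => ⊥
  | n + 1 => puigSucc D (puigAt D n)

/-- `L_*(D)`. -/
def puigInf (D : Subgroup G) : Subgroup G := ⨆ n, puigAt D (2 * n)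

/-- The Puig subgroup `L(D)`. -/
def puig (D : Subgroup G) : Subgroup G := ⨅ n, puigAt D (2 * n + 1)

/-! ### The minimal counterexample -/

/-- `G` is a minimal simple group of odd order. -/
class MinOdd (G : Type u) [Group G] : Prop where
  odd : Odd (Nat.card G)
  simple : IsSimpleGroup G
  not_solv : ¬ Group.IsSolvable G
  proper_solv : ∀ H : Subgroup G, H ≠ ⊤ → Group.IsSolvable H

/-- `ℳ(X) = {M}`. -/
def UniqMax (X M : Subgroup G) : Prop :=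
  IsCoatom M ∧ X ≤ M ∧ ∀ L : Subgroup G, IsCoatom L → X ≤ L → L = M

/-- `X ∈ 𝒰`. -/
def InU (X : Subgroup G) : Prop := ∃ M, UniqMax X M

/-- `M` and `L` are conjugate in the ambient group. -/
def Conj (M L : Subgroup G) : Prop := ∃ g : G, L = M ^ᵍ g

/-- `Q ∈ И_H(A; π)`. -/
def NormedPi (H A : Subgroup G) (π : Set ℕ) (Q : Subgroup G) : Prop :=
  Q ≤ H ∧ IsPiSubgroup π Q ∧ A ≤ 𝐍(Q)

/-- `Q ∈ И*(A; π)` (maximal `A`-invariant π-subgroup of the ambient group). -/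
def MaxNormedPi (A : Subgroup G) (π : Set ℕ) (Q : Subgroup G) : Prop :=
  NormedPi ⊤ A π Q ∧ ∀ R, NormedPi ⊤ A π R → Q ≤ R → R = Q

/-- BG Hypothesis 7.1. -/
structure NormedConstrained (A : Subgroup G) : Prop where
  ne_bot : A ≠ ⊥
  ne_top : A ≠ ⊤
  le_core : ∀ X Y : Subgroup G, A ≤ X → X ≠ ⊤ → NormedPi X A (piOf A)ᶜ Y →
    Y ≤ piCoreOf (piOf A)ᶜ X

/-- `K` acts transitively on `И*(A; q)`. -/
def TransOn (K A : Subgroup G) (q : ℕ) : Prop :=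
  ∀ Q₁ Q₂, MaxNormedPi A {q} Q₁ → MaxNormedPi A {q} Q₂ → ∃ k ∈ K, Q₂ = Q₁ ^ᵍ k

/-- `α(M)`. -/
def alp (M : Subgroup G) : Set ℕ := {p | p.Prime ∧ 2 < pRank p M}

variable (G) in
/-- The ideal primes `β(G)`. -/
def betG : Set ℕ := {p | p.Prime ∧ ∀ P : Subgroup G, IsSyl p P ⊤ → ¬ Narrow p P}

/-- `β(M)`. -/
def bet (M : Subgroup G) : Set ℕ := alp M ∩ betG G

/-- `σ(M)`. -/
def sig (M : Subgroup G) : Set ℕ :=
  {p | p.Prime ∧ p ∣ Nat.card M ∧ ∃ P : Subgroup G, IsSyl p P M ∧ 𝐍(P) ≤ M}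

/-- `M_α`. -/
def Ma (M : Subgroup G) : Subgroup G := piCoreOf (alp M) M
/-- `M_β`. -/
def Mb (M : Subgroup G) : Subgroup G := piCoreOf (bet M) M
/-- `M_σ`. -/
def Ms (M : Subgroup G) : Subgroup G := piCoreOf (sig M) M
/-- `M_F`. -/
abbrev MF (M : Subgroup G) : Subgroup G := fittingHallOf M

/-- `τ₁(M)`. -/
def ta1 (M : Subgroup G) : Set ℕ :=
  {p | p.Prime ∧ p ∉ sig M ∧ pRank p M = 1 ∧ ¬ p ∣ Nat.card (⁅M, M⁆ : Subgroup G)}
/-- `τ₂(M)`. -/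
def ta2 (M : Subgroup G) : Set ℕ := {p | p.Prime ∧ p ∉ sig M ∧ pRank p M = 2}
/-- `τ₃(M)`. -/
def ta3 (M : Subgroup G) : Set ℕ :=
  {p | p.Prime ∧ p ∉ sig M ∧ pRank p M = 1 ∧ p ∣ Nat.card (⁅M, M⁆ : Subgroup G)}

/-- BG Hypothesis 11.1. -/
structure Exceptional (p : ℕ) (M A₀ A : Subgroup G) : Prop where
  prime : p.Prime
  max : IsCoatom M
  not_sig : p ∉ sig M
  card0 : Nat.card A₀ = p
  le0 : A₀ ≤ A
  norm0 : 𝐍(A₀) ≤ M
  le : A ≤ M
  elem : IsElem p 2 A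

/-- The notation of BG section 12. -/
structure SigmaCompl (M E E₁ E₂ E₃ : Subgroup G) : Prop where
  hall : IsPiHallOf (sig M)ᶜ E M
  hall1 : IsPiHallOf (ta1 M) E₁ E
  hall2 : IsPiHallOf (ta2 M) E₂ E
  hall3 : IsPiHallOf (ta3 M) E₃ E
  norm : E₁ ≤ 𝐍(E₂)

/-- `κ(M)`. -/
def kap (M : Subgroup G) : Set ℕ :=
  {p | p ∈ ta1 M ∪ ta3 M ∧ ∃ P : Subgroup G, P ≤ M ∧ Nat.card P = p ∧ Ms M ⊓ 𝐂(P) ≠ ⊥}

/-- `M ∈ ℳ_F`. -/
def IsFtype (M : Subgroup G) : Prop := IsCoatom M ∧ kap M = ∅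
/-- `M ∈ ℳ_P`. -/
def IsPtype (M : Subgroup G) : Prop := IsCoatom M ∧ (kap M).Nonempty
/-- `M ∈ ℳ_{P₁}`. -/
def IsP1type (M : Subgroup G) : Prop := IsPtype M ∧ IsPiSubgroup (sig M ∪ kap M) M
/-- `M ∈ ℳ_{P₂}`. -/
def IsP2type (M : Subgroup G) : Prop := IsPtype M ∧ ¬ IsPiSubgroup (sig M ∪ kap M) M

/-- The factorisation `M = K U M_σ`. -/
structure KappaCompl (M U K : Subgroup G) : Prop where
  hallU : IsPiHallOf (sig M ∪ kap M)ᶜ U M
  hallK : IsPiHallOf (kap M) K M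
  norm : K ≤ 𝐍(U)

/-- `M ∈ ℳ_σ(x)`. -/
def InMsig (x : G) (M : Subgroup G) : Prop := IsCoatom M ∧ x ∈ Ms M

/-- `ℓ_σ(x) = 1`. -/
def SigElt (x : G) : Prop := x ≠ 1 ∧ ∃ M, InMsig x M

/-- `|ℳ_σ(x)| > 1`. -/
def MultiSig (x : G) : Prop := ∃ M₁ M₂, InMsig x M₁ ∧ InMsig x M₂ ∧ M₁ ≠ M₂

open Classical in
/-- `N(x)` of BG Theorem 14.4 (trivial unless `|ℳ_σ(x)| > 1`). -/
noncomputable def Nsig (x : G) : Subgroup G :=
  if MultiSig x then Classical.epsilon fun N : Subgroup G => IsCoatom N ∧ 𝐂[x] ≤ N else ⊥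

/-- `R(x)` of BG Theorem 14.4. -/
noncomputable def Rsig (x : G) : Subgroup G := Ms (Nsig x) ⊓ 𝐂[x]

/-- `M̃ = ⋃_{x ∈ M_σ^#} x R(x)`. -/
def sigSupp (M : Subgroup G) : Set G := {g | ∃ x ∈ sharp (Ms M), ∃ r ∈ Rsig x, g = x * r}

/-! ### The types of maximal subgroups (BG section 16, PF section 8) -/

/-- `U₁` of PF (8.1)(b). -/
structure TypeFInertia (M U U₁ : Subgroup G) : Prop where
  nrm : U₁ ⊲ U
  comm : IsMulCommutative U₁
  cent : ∀ x ∈ MF M, x ≠ 1 → U ⊓ 𝐂[x] ≤ U₁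

/-- `U₀` of PF (8.1)(c). -/
structure TypeFCompl (M U U₀ : Subgroup G) : Prop where
  le : U₀ ≤ U
  exp : Monoid.exponent U₀ = Monoid.exponent U
  frob : Frob (MF M) U₀

/-- PF (8.1): `M` is of type F with complement `U`. -/
structure OfTypeF (M U : Subgroup G) : Prop where
  ne_botF : MF M ≠ ⊥
  ne_botU : U ≠ ⊥
  sd : SdProd (MF M) U M
  inertia : ∃ U₁, TypeFInertia M U U₁
  compl : ∃ U₀, TypeFCompl M U U₀

/-- PF (8.3). -/
structure OfTypeI (M U : Subgroup G) : Prop where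
  typeF : OfTypeF M U
  cases : NormedTI (sharp (MF M)) ⊤ M ∨ (IsMulCommutative (MF M) ∧ rank (MF M) = 2) ∨
    ((∀ p ∈ piOf (MF M), Monoid.exponent U ∣ p - 1) ∧
      ∃ p ∈ piOf (MF M), IsCyclic (H2.pPrimeCoreOf p (MF M)))

/-- PF (8.4). -/
structure OfTypeP (M U W₁ W₂ W : Subgroup G) : Prop where
  dprod : DProd W₁ W₂ W
  cyc1 : IsCyclic W₁
  hall1 : IsHallIn W₁ M
  ne_bot1 : W₁ ≠ ⊥
  sdM : SdProd ⁅M, M⁆ W₁ M
  nilU : Group.IsNilpotent U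
  normU : W₁ ≤ 𝐍(U)
  sdD : SdProd (MF M) U ⁅M, M⁆
  ncycF : ¬ IsCyclic (MF M)
  der2_le : ⁅⁅M, M⁆, ⁅M, M⁆⁆ ≤ fittingOf M
  fit_eq : MF M ⊔ (M ⊓ 𝐂(MF M)) = fittingOf M
  fit_le : fittingOf M ≤ ⁅M, M⁆
  cyc2 : IsCyclic W₂
  ne_bot2 : W₂ ≠ ⊥
  le2F : W₂ ≤ MF M
  le2der : W₂ ≤ ⁅⁅M, M⁆, ⁅M, M⁆⁆
  cent : ∀ x ∈ W₁, x ≠ 1 → ⁅M, M⁆ ⊓ 𝐂[x] = W₂
  ti : NormedTI (hatSet W₁ W₂) ⊤ W

/-- PF (8.6)(a). -/
structure OfTypeIItoIV (M U W₁ W₂ W : Subgroup G) : Prop where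
  typeP : OfTypeP M U W₁ W₂ W
  ne_botU : U ≠ ⊥
  prime1 : (Nat.card W₁).Prime
  tiF : NormedTI (sharp (fittingOf M)) ⊤ M

/-- PF (8.6)(b). -/
structure OfTypeII (M U W₁ W₂ W : Subgroup G) : Prop where
  base : OfTypeIItoIV M U W₁ W₂ W
  comm : IsMulCommutative U
  not_norm : ¬ 𝐍(U) ≤ M
  typeF : OfTypeF ⁅M, M⁆ U
  derF : MF ⁅M, M⁆ = MF M

/-- PF (8.6)(c). -/
structure OfTypeIII (M U W₁ W₂ W : Subgroup G) : Prop where
  base : OfTypeIItoIV M U W₁ W₂ W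
  comm : IsMulCommutative U
  norm : 𝐍(U) ≤ M

/-- PF (8.6)(d). -/
structure OfTypeIV (M U W₁ W₂ W : Subgroup G) : Prop where
  base : OfTypeIItoIV M U W₁ W₂ W
  not_comm : ¬ IsMulCommutative U
  norm : 𝐍(U) ≤ M

/-- PF (8.7). -/
structure OfTypeV (M U W₁ W₂ W : Subgroup G) : Prop where
  typeP : OfTypeP M U W₁ W₂ W
  eq_bot : U = ⊥
  cases : NormedTI (sharp (MF M)) ⊤ M ∨
    (∃ p ∈ piOf (MF M), IsCyclic (H2.pPrimeCoreOf p (MF M)) ∧ Nat.card W₁ ∣ p - 1) ∨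
    (∃ p ∈ piOf (MF M), IsCyclic (H2.pPrimeCoreOf p (MF M)) ∧
      Nat.card (pCoreOf p (MF M)) = p ^ 3 ∧ Nat.card W₁ ∣ p + 1)

open Classical in
/-- The type (1 to 5) of a maximal subgroup, defined from the BG invariants. -/
noncomputable def ftType (M : Subgroup G) : ℕ :=
  if kap M = ∅ then 1 else
  if ¬ IsPiSubgroup (sig M ∪ kap M) M then 2 else
  if MF M = Ms M then 5 else
  if ⁅Ms M, Ms M⁆ ≤ MF M then 3 else 4

/-- `M` for type I, `M'` otherwise. -/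
noncomputable def ftDer (M : Subgroup G) : Subgroup G := if ftType M = 1 then M else ⁅M, M⁆

/-- `A₁(M) = M_s^#`; recall that `M_s = M_σ`. -/
def ftA1 (M : Subgroup G) : Set G := sharp (Ms M)

/-- `A(M)`. -/
def ftA (M : Subgroup G) : Set G :=
  {a | a ∈ ftDer M ∧ a ≠ 1 ∧ ∃ x ∈ ftA1 M, a ∈ 𝐂[x]}

/-- `A₀(M)`. -/
def ftA0 (M : Subgroup G) : Set G :=
  ftA M ∪ {a | a ∈ M ∧ ¬ IsPiElt (piOf (ftDer M)) a ∧ ¬ IsPiElt (piOf (ftDer M))ᶜ a}

open Classical in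
/-- The Dade signalizer `R(x)` of PF (8.14) for the maximal subgroup `M`. -/
noncomputable def ftR (M : Subgroup G) (x : G) : Subgroup G :=
  if 𝐂[x] ≤ M then ⊥ else MF (Nsig x) ⊓ 𝐂[x]

/-- `L` supports `M` (PF (8.14)). -/
def Supports' (M L : Subgroup G) : Prop := ∃ x ∈ ftA M, ¬ 𝐂[x] ≤ M ∧ 𝐂[x] ≤ L

/-- PF (8.8)(b). -/
structure TypePPair (S T W₁ W₂ W : Subgroup G) : Prop where
  maxS : IsCoatom S
  maxT : IsCoatom T
  cyc : IsCyclic W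
  dprod : DProd W₁ W₂ W
  ne_bot1 : W₁ ≠ ⊥
  ne_bot2 : W₂ ≠ ⊥
  ti : NormedTI (hatSet W₁ W₂) ⊤ W
  sdS : SdProd ⁅S, S⁆ W₁ S
  sdT : SdProd ⁅T, T⁆ W₂ T
  inf : S ⊓ T = W
  type2 : ftType S = 2 ∨ ftType T = 2
  neS : ftType S ≠ 1
  neT : ftType T ≠ 1
  conj : ∀ M : Subgroup G, IsCoatom M → ftType M ≠ 1 → Conj S M ∨ Conj T M

/-! ### The group-theoretic hypotheses of PF sections 2, 3, 4, 6 -/

/-- PF Hypothesis (2.2), with the signalizer function `H` made explicit. -/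
structure DadeHyp (L : Subgroup G) (A : Set G) (H : G → Subgroup G) : Prop where
  subset : A ⊆ L
  norm : ∀ g ∈ L, ∀ a ∈ A, g * a * g⁻¹ ∈ A
  one_notMem : (1 : G) ∉ A
  fusion : ∀ a ∈ A, ∀ g : G, g * a * g⁻¹ ∈ A → ∃ l ∈ L, l * a * l⁻¹ = g * a * g⁻¹
  sd : ∀ a ∈ A, SdProd (H a) (L ⊓ 𝐂[a]) 𝐂[a]
  cop : ∀ a ∈ A, ∀ b ∈ A, (Nat.card (H a)).Coprime (Nat.card (L ⊓ 𝐂[b] : Subgroup G))

/-- `g` is conjugate to an element of `H(a) a`. -/
def InDadeSupp1 (H : G → Subgroup G) (a g : G) : Prop :=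
  ∃ h ∈ H a, ∃ x : G, g = x * (h * a) * x⁻¹

/-- The support `Ã = ⋃_{a ∈ A} (H(a) a)^G` of the Dade isometry. -/
def dadeSupp (A : Set G) (H : G → Subgroup G) : Set G := {g | ∃ a ∈ A, InDadeSupp1 H a g}

/-- PF Hypothesis (3.1), in the group `X`. -/
structure CycTI (X W₁ W₂ W : Subgroup G) : Prop where
  dprod : DProd W₁ W₂ W
  cyc : IsCyclic W
  odd : Odd (Nat.card W)
  ti : NormedTI (hatSet W₁ W₂) X W

/-- PF Hypothesis (4.2). -/
structure PrimeTI (L K W₁ W₂ W : Subgroup G) : Prop where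
  dprod : DProd W₁ W₂ W
  sd : SdProd K W₁ L
  ne_bot1 : W₁ ≠ ⊥
  hall1 : IsHallIn W₁ L
  cyc1 : IsCyclic W₁
  ne_bot2 : W₂ ≠ ⊥
  le2 : W₂ ≤ K
  cyc2 : IsCyclic W₂
  cent : ∀ x ∈ W₁, x ≠ 1 → K ⊓ 𝐂[x] = W₂
  odd : Odd (Nat.card W)

/-- PF Hypothesis (4.6); `R` is the Dade signalizer for `A₀`. -/
structure PrDade (L K H : Subgroup G) (A A₀ : Set G) (R : G → Subgroup G)
    (W₁ W₂ W : Subgroup G) : Prop where
  cycTI : CycTI ⊤ W₁ W₂ W
  primeTI : PrimeTI L K W₁ W₂ W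
  dade : DadeHyp L A₀ R
  nrmH : H ⊲ L
  le2H : W₂ ≤ H
  leHK : H ≤ K
  normA : ∀ g ∈ L, ∀ a ∈ A, g * a * g⁻¹ ∈ A
  centA : ∀ h ∈ H, h ≠ 1 → sharp (K ⊓ 𝐂[h]) ⊆ A
  subA : A ⊆ sharp K
  defA0 : A₀ = A ∪ classSupp (hatSet W₁ W₂) L

/-- PF Hypothesis (6.4). -/
structure OddFrobQuot (K L M : Subgroup G) : Prop where
  odd : Odd (Nat.card L)
  nrm : M ⊲ L
  le : M ≤ K
  nil : NilMod K M
  frob : FrobKerMod L K (⁅K, K⁆ ⊔ M)

end Cfsg.Agent.FT
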