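/-
Odd order project: the base library (all proved).
-/
import Cfsg.Agent.FT.B.Min
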