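/-
The proved character base library.
-/
import Cfsg.Agent.FT.C.Pull
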