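/-
Galois action, integrality, and the rest of PF section 1 (proved in `FT/P/CH2_*.lean`).
-/
import Cfsg.Agent.FT.P.CH2_1
import Cfsg.Agent.FT.P.CH2_2
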