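/-
PF section 2: the Dade isometry (and the elementary part of section 7)
(proved in `FT/P/PF02_*`).
-/
import Cfsg.Agent.FT.P.PF02_1
import Cfsg.Agent.FT.P.PF02_2
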