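/-
PF03: proved in FT/P.
-/
import Cfsg.Agent.FT.P.PF03_1
import Cfsg.Agent.FT.P.PF03_2
import Cfsg.Agent.FT.P.PF03_3
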