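/-
BG section 4: p-groups of small rank (proved in `FT/P/BG04_*`).
-/
import Cfsg.Agent.FT.P.BG04_1
import Cfsg.Agent.FT.P.BG04_2
import Cfsg.Agent.FT.P.BG04_3
import Cfsg.Agent.FT.P.BG04_4
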