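/-
BG section 5: narrow p-groups (proved in `FT/P/BG05_1`).
-/
import Cfsg.Agent.FT.P.BG05_1
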