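/-
BG appendices A and B (p-stability, Puig subgroup) and section 6 (proved in `FT/P/BG06_*`).
-/
import Cfsg.Agent.FT.P.BG06_2
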