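/-
BG section 7 (proved in `FT/P/BG07_*`).
-/
import Cfsg.Agent.FT.P.BG07_1
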