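/-
BG section 10: the subgroups M_alpha and M_sigma (proved in `FT/P/BG10_*`).
-/
import Cfsg.Agent.FT.P.BG10_1
import Cfsg.Agent.FT.P.BG10_2
import Cfsg.Agent.FT.P.BG10_3
import Cfsg.Agent.FT.P.BG10_4
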