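import Cfsg.Agent.FT.P.BG12a_1
import Cfsg.Agent.FT.P.BG12a_2
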