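import Cfsg.Agent.FT.P.BG12b_1
import Cfsg.Agent.FT.P.BG12b_2
import Cfsg.Agent.FT.P.BG12b_3
import Cfsg.Agent.FT.P.BG12b_4
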