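/-
BG section 13: prime action (proved in `FT/P/BG13_*.lean`).
-/
import Cfsg.Agent.FT.P.BG13_2
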