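/-
BG section 14: maximal subgroups of type P and counting arguments (proved in `FT/P/BG14_*`).
-/
import Cfsg.Agent.FT.P.BG14_1
import Cfsg.Agent.FT.P.BG14_2
import Cfsg.Agent.FT.P.BG14_3
import Cfsg.Agent.FT.P.BG14_4
import Cfsg.Agent.FT.P.BG14_5
import Cfsg.Agent.FT.P.BG14_6
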