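/-
BG section 16 (types of maximal subgroups) and the group-theoretic part of PF section 8
(proved in `FT/P/BG16_*`).
-/
import Cfsg.Agent.FT.P.BG16_1
import Cfsg.Agent.FT.P.BG16_2
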