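/-
BG Theorems D, E, II and PF (8.13)-(8.18): the sets A(M) and the supports of the Dade isometries
(proved in `FT/P/BG17_1`).
-/
import Cfsg.Agent.FT.P.BG17_1
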