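/-
PF section 5: sets of induced characters, coherence.
-/
import Cfsg.Agent.FT.P.PF05_1
import Cfsg.Agent.FT.P.PF05_2
import Cfsg.Agent.FT.P.PF05_3
import Cfsg.Agent.FT.P.PF05_4
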