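/-
PF section 6: some coherence theorems (proved in `FT/P/PF06_*`).
-/
import Cfsg.Agent.FT.P.PF06_1
import Cfsg.Agent.FT.P.PF06_2
import Cfsg.Agent.FT.P.PF06_3
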