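/-
PF section 7 (the part (7.2), (7.3), (7.5) is in PF02); proved in `FT/P/PF07_*.lean`.
-/
import Cfsg.Agent.FT.P.PF07_1
import Cfsg.Agent.FT.P.PF07_2
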