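/-
PF section 8, character-theoretic part (proved in `FT/P/PF08_1.lean`).
-/
import Cfsg.Agent.FT.P.PF08_1
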