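/-
PF (9.3)-(9.7): proved in `FT/P/PF09a_*.lean`.
-/
import Cfsg.Agent.FT.P.PF09a_1
import Cfsg.Agent.FT.P.PF09a_2
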