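/-
PF (9.11) (proved in `FT/P/PF09c_*`).
-/
import Cfsg.Agent.FT.P.PF09c_1
import Cfsg.Agent.FT.P.PF09c_2
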