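/-
PF (10.1)-(10.9): proved in `FT/P/PF10a_*.lean`.
-/
import Cfsg.Agent.FT.P.PF10a_1
import Cfsg.Agent.FT.P.PF10a_2
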