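/-
PF10b: proved in FT/P.
-/
import Cfsg.Agent.FT.P.PF10b_1
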