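/-
PF (11.1)-(11.7): groups of type III and IV. Here `C = U ⊓ 𝐂(MF M)`.
-/
import Cfsg.Agent.FT.PF10b
import Cfsg.Agent.FT.P.PF11a_1
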