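/-
PF (12.7)-(12.17).
-/
import Cfsg.Agent.FT.PF12a
import Cfsg.Agent.FT.P.PF12b_1
import Cfsg.Agent.FT.P.PF12b_2
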