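/-
PF (13.2), (13.3), (13.5)-(13.8): proofs in `FT/P/PF13a_1.lean`.
-/
import Cfsg.Agent.FT.PF12b
import Cfsg.Agent.FT.P.PF13a_1
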