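/-
PF (13.4), (13.9)-(13.16).
-/
import Cfsg.Agent.FT.PF13a
import Cfsg.Agent.FT.P.PF13b_1
import Cfsg.Agent.FT.P.PF13b_2
import Cfsg.Agent.FT.P.PF13b_3
import Cfsg.Agent.FT.P.PF13b_4
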