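/-
PF (13.17)-(13.19).
-/
import Cfsg.Agent.FT.P.PF13c_1
import Cfsg.Agent.FT.P.PF13c_2
import Cfsg.Agent.FT.P.PF13c_3
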