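/-
PF (14.1)-(14.9): proved in `FT/P/PF14a_1.lean`.
-/
import Cfsg.Agent.FT.P.PF14a_1
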