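/-
PF (14.10)-(14.16): proved in `FT/P/PF14b_1.lean`, `FT/P/PF14b_2.lean`.
-/
import Cfsg.Agent.FT.P.PF14b_1
import Cfsg.Agent.FT.P.PF14b_2
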