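/-
The odd order theorem.
-/
import Cfsg.Agent.FT.PF14b

set_option autoImplicit false

namespace Cfsg.Agent.FT

open Subgroup Cfsg Cfsg.Agent

universe u

theorem no_minOdd (G : Type u) [Group G] [Finite G] (h : MinOdd G) : False := by
  obtain ⟨S, T, W₁, W₂, W, hp⟩ := exists_typePPair (G := G)
  have hne := hp.cycTI.basic.2.2.2.2.2.2.1
  rcases lt_or_gt_of_ne hne with hlt | hlt
  · exact typeII_exclusion hp hlt
  · exact typeII_exclusion hp.symm hlt

/-- The Feit-Thompson theorem. -/
theorem feit_thompson (G : Type u) [Group G] [Finite G] (h : Odd (Nat.card G)) :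
    Group.IsSolvable G :=
  isSolvable_of_no_minOdd no_minOdd G h

end Cfsg.Agent.FT
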