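/-
BG section 1: proved in `FT/P/BG01_*.lean`.
-/
import Cfsg.Agent.FT.Base
import Cfsg.Agent.FT.P.BG01_1
import Cfsg.Agent.FT.P.BG01_2
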