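/-
BG sections 2 and 3, first part: proved in `FT/P/BG03a_*.lean`.
-/
import Cfsg.Agent.FT.BG01
import Cfsg.Agent.FT.P.BG03a_1
import Cfsg.Agent.FT.P.BG03a_h5_1
import Cfsg.Agent.FT.P.BG03a_h5_2
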