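/-
BG section 3, second part (3.4, 3.5, 3.6, 3.8, 3.10): proved in `FT/P/BG03b_*.lean`.
-/
import Cfsg.Agent.FT.P.BG03b_1
import Cfsg.Agent.FT.P.BG03b_2
import Cfsg.Agent.FT.P.BG03b_3
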